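import Mathlib
import Cfsg.Agent.Lib.Unitary.Transvection

/-! The field with 16 elements as 4-bit codes, and `SU₃(4)` matrices coded in natural numbers. -/

set_option autoImplicit false

namespace Cfsg.Agent.Lib.U34

/-- multiplication table of `F₂[w]/(w⁴ + w + 1)` -/
def mulTab : Nat := 0xa5783ce1b4692df05ba48679c23d1fe07ae36bf258c149d0843fd16a2e957bc0386d92c74f1ae5b0c6b1285f394ed7a0e7f6c5d4a3b28190192a7f4cd5e6b380bc5243ad618f9e70428ef93517dbac6063c914be8d27fa509d15ae26fb73c8402147ed8b9afc5630df9b5713eca86420fedcba98765432100000000000000000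

def mulN (a b : Nat) : Nat := Nat.mod (Nat.shiftRight mulTab (Nat.mul 4 (Nat.add (Nat.mul 16 a) b))) 16

def addN (a b : Nat) : Nat := Nat.xor a b

/-- `F₁₆` -/
structure K16 where
  v : Fin 16
deriving DecidableEq

def kE (n : Nat) : K16 := ⟨⟨n % 16, Nat.mod_lt _ (by norm_num)⟩⟩

def k16Equiv : Fin 16 ≃ K16 := ⟨K16.mk, K16.v, fun _ => rfl, fun _ => rfl⟩

instance k16Fintype : Fintype K16 := Fintype.ofEquiv _ k16Equiv
instance k16Zero : Zero K16 := ⟨kE 0⟩
instance k16One : One K16 := ⟨kE 1⟩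
instance k16Add : Add K16 := ⟨fun a b => kE (addN a.v.val b.v.val)⟩
instance k16Mul : Mul K16 := ⟨fun a b => kE (mulN a.v.val b.v.val)⟩
instance k16Neg : Neg K16 := ⟨fun a => a⟩

def sqN (a : Nat) : Nat := mulN a a
def conjN (a : Nat) : Nat := sqN (sqN a)
def invN (a : Nat) : Nat := mulN (mulN (sqN a) (conjN a)) (sqN (conjN a))

instance k16Inv : Inv K16 := ⟨fun a => kE (invN a.v.val)⟩

instance k16Field : Field K16 :=
  Field.ofMinimalAxioms K16 (by decide +kernel) (by decide +kernel) (by decide +kernel)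
    (by decide +kernel) (by decide +kernel) (by decide +kernel) (by decide +kernel) (by decide +kernel)
    (by decide +kernel) ⟨0, 1, by decide +kernel⟩

theorem card_k16 : Fintype.card K16 = 4 ^ 2 := by
  rw [Fintype.card_congr k16Equiv.symm, Fintype.card_fin]; norm_num

theorem kE_mul {a b : Nat} (ha : a < 16) (hb : b < 16) : kE (mulN a b) = kE a * kE b := by
  show _ = kE (mulN (a % 16) (b % 16))
  rw [Nat.mod_eq_of_lt ha, Nat.mod_eq_of_lt hb]

theorem kE_add {a b : Nat} (ha : a < 16) (hb : b < 16) : kE (addN a b) = kE a + kE b := by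
  show _ = kE (addN (a % 16) (b % 16))
  rw [Nat.mod_eq_of_lt ha, Nat.mod_eq_of_lt hb]

theorem mulN_lt (a b : Nat) : mulN a b < 16 := Nat.mod_lt _ (by norm_num)

theorem addN_lt {a b : Nat} (ha : a < 16) (hb : b < 16) : addN a b < 16 :=
  Nat.xor_lt_two_pow (n := 4) ha hb

theorem kE_conj {a : Nat} (ha : a < 16) : kE (conjN a) = kE a ^ 4 := by
  rw [conjN, sqN, sqN, kE_mul (mulN_lt _ _) (mulN_lt _ _), kE_mul ha ha]
  ring

theorem kE_val {a : Nat} (ha : a < 16) : (kE a).v.val = a := Nat.mod_eq_of_lt ha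

/-! ### matrices -/

/-- entry `(i, j)` of a coded matrix -/
def ent (A i j : Nat) : Nat := Nat.mod (Nat.shiftRight A (Nat.mul 4 (Nat.add (Nat.mul 3 i) j))) 16

theorem ent_lt (A i j : Nat) : ent A i j < 16 := Nat.mod_lt _ (by norm_num)

def dec (A : Nat) : Matrix (Fin 3) (Fin 3) K16 := Matrix.of fun i j => kE (ent A i.val j.val)

def sum3N (f : Nat → Nat) : Nat := addN (addN (f 0) (f 1)) (f 2)

theorem sum3N_lt {f : Nat → Nat} (h : ∀ k, f k < 16) : sum3N f < 16 :=
  addN_lt (addN_lt (h 0) (h 1)) (h 2)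

theorem kE_sum3 {f : Nat → Nat} (h : ∀ k, f k < 16) :
    kE (sum3N f) = kE (f 0) + kE (f 1) + kE (f 2) := by
  rw [sum3N, kE_add (addN_lt (h 0) (h 1)) (h 2), kE_add (h 0) (h 1)]

def prodE (A B i j : Nat) : Nat := sum3N fun k => mulN (ent A i k) (ent B k j)

theorem dec_mul_apply (A B : Nat) (i j : Fin 3) :
    (dec A * dec B) i j = kE (prodE A B i.val j.val) := by
  rw [prodE, kE_sum3 (fun k => mulN_lt _ _)]
  simp only [Matrix.mul_apply, Fin.sum_univ_three, dec, Matrix.of_apply, Fin.val_zero, Fin.val_one,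
    Fin.val_two, kE_mul (ent_lt _ _ _) (ent_lt _ _ _)]

def all3 (f : Nat → Nat → Bool) : Bool :=
  f 0 0 && f 0 1 && f 0 2 && f 1 0 && f 1 1 && f 1 2 && f 2 0 && f 2 1 && f 2 2

theorem all3_spec {f : Nat → Nat → Bool} (h : all3 f = true) (i j : Fin 3) : f i.val j.val = true := by
  simp only [all3, Bool.and_eq_true] at h
  fin_cases i <;> fin_cases j <;> simp_all

/-- `A * B = C * D` -/
def eqProd (A B C D : Nat) : Bool := all3 fun i j => prodE A B i j == prodE C D i j

theorem eqProd_spec {A B C D : Nat} (h : eqProd A B C D = true) : dec A * dec B = dec C * dec D := by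
  ext i j
  rw [dec_mul_apply, dec_mul_apply, beq_iff_eq.1 (all3_spec h i j)]

/-- the identity matrix code -/
def idN : Nat := 1 + 16 ^ 4 + 16 ^ 8

theorem dec_idN : dec idN = 1 := by
  ext i j; fin_cases i <;> fin_cases j <;> decide +kernel

def detN (A : Nat) : Nat :=
  addN (addN (addN (mulN (mulN (ent A 0 0) (ent A 1 1)) (ent A 2 2))
    (mulN (mulN (ent A 0 0) (ent A 1 2)) (ent A 2 1)))
    (addN (mulN (mulN (ent A 0 1) (ent A 1 0)) (ent A 2 2))
    (mulN (mulN (ent A 0 1) (ent A 1 2)) (ent A 2 0))))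
    (addN (mulN (mulN (ent A 0 2) (ent A 1 0)) (ent A 2 1))
    (mulN (mulN (ent A 0 2) (ent A 1 1)) (ent A 2 0)))

theorem neg_eq (a : K16) : -a = a := rfl

theorem dec_det (A : Nat) : (dec A).det = kE (detN A) := by
  have h : ∀ a b c : Nat, mulN (mulN a b) c < 16 := fun a b c => mulN_lt _ _
  rw [detN, kE_add (addN_lt (addN_lt (h _ _ _) (h _ _ _)) (addN_lt (h _ _ _) (h _ _ _)))
      (addN_lt (h _ _ _) (h _ _ _)),
    kE_add (addN_lt (h _ _ _) (h _ _ _)) (addN_lt (h _ _ _) (h _ _ _)),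
    kE_add (h _ _ _) (h _ _ _), kE_add (h _ _ _) (h _ _ _), kE_add (h _ _ _) (h _ _ _)]
  simp only [Matrix.det_fin_three, dec, Matrix.of_apply, Fin.val_zero, Fin.val_one, Fin.val_two,
    kE_mul (mulN_lt _ _) (ent_lt _ _ _), kE_mul (ent_lt _ _ _) (ent_lt _ _ _), sub_eq_add_neg, neg_eq]
  ring

def goodN (A : Nat) : Bool :=
  (detN A == 1) &&
  all3 fun a b => sum3N (fun i => mulN (ent A i a) (conjN (ent A i b))) == if a = b then 1 else 0

theorem mem_SU {A : Nat} (h : goodN A = true) (hdet : (dec A).det = 1) :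
    (⟨dec A, hdet⟩ : Matrix.SpecialLinearGroup (Fin 3) K16) ∈ Cfsg.SU 3 K16 4 := by
  simp only [goodN, Bool.and_eq_true] at h
  intro u v
  show Cfsg.hermForm 3 K16 4 ((dec A).mulVec u) ((dec A).mulVec v) = Cfsg.hermForm 3 K16 4 u v
  have hg : ∀ a b : Fin 3, dec A 0 a * dec A 0 b ^ 4 + dec A 1 a * dec A 1 b ^ 4
      + dec A 2 a * dec A 2 b ^ 4 = if a = b then 1 else 0 := by
    intro a b
    have e := congrArg kE (beq_iff_eq.1 (all3_spec h.2 a b))
    rw [kE_sum3 (fun k => mulN_lt _ _)] at e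
    have hc : ∀ k, conjN (ent A k b.val) < 16 := fun k => mulN_lt _ _
    simp only [kE_mul (ent_lt _ _ _) (hc _), kE_conj (ent_lt _ _ _)] at e
    refine e.trans ?_
    fin_cases a <;> fin_cases b <;> rfl
  have ha : ∀ x y : K16, (x + y) ^ 4 = x ^ 4 + y ^ 4 := fun x y =>
    Cfsg.Agent.Lib.Unitary.add_pow_q card_k16 x y
  have h00 := hg 0 0
  have h01 := hg 0 1
  have h02 := hg 0 2
  have h10 := hg 1 0
  have h11 := hg 1 1
  have h12 := hg 1 2
  have h20 := hg 2 0
  have h21 := hg 2 1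
  have h22 := hg 2 2
  rw [if_pos rfl] at h00 h11 h22
  rw [if_neg (by decide)] at h01 h02 h10 h12 h20 h21
  simp only [Cfsg.hermForm, Fin.sum_univ_three, Matrix.mulVec, dotProduct, ha, mul_pow]
  linear_combination u 0 * v 0 ^ 4 * h00 + u 0 * v 1 ^ 4 * h01 + u 0 * v 2 ^ 4 * h02
    + u 1 * v 0 ^ 4 * h10 + u 1 * v 1 ^ 4 * h11 + u 1 * v 2 ^ 4 * h12
    + u 2 * v 0 ^ 4 * h20 + u 2 * v 1 ^ 4 * h21 + u 2 * v 2 ^ 4 * h22

theorem det_of_good {A : Nat} (h : goodN A = true) : (dec A).det = 1 := by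
  simp only [goodN, Bool.and_eq_true] at h
  rw [dec_det, beq_iff_eq.1 h.1]
  rfl

/-- the group element with a given code -/
def el (A : Nat) : ↥(Cfsg.SU 3 K16 4) :=
  if h : goodN A = true then ⟨⟨dec A, det_of_good h⟩, mem_SU h (det_of_good h)⟩ else 1

theorem el_coe {A : Nat} (h : goodN A = true) : (el A).1.1 = dec A := by
  simp [el, h]

theorem el_mul {A B C D : Nat} (hA : goodN A = true) (hB : goodN B = true) (hC : goodN C = true)
    (hD : goodN D = true) (h : eqProd A B C D = true) : el A * el B = el C * el D := by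
  apply Subtype.ext
  apply Subtype.ext
  show (el A).1.1 * (el B).1.1 = (el C).1.1 * (el D).1.1
  rw [el_coe hA, el_coe hB, el_coe hC, el_coe hD]
  exact eqProd_spec h

theorem el_idN : el idN = 1 := by
  apply Subtype.ext
  apply Subtype.ext
  rw [el_coe (by decide +kernel), dec_idN]
  rfl

theorem el_ne {A B : Nat} (hA : goodN A = true) (hB : goodN B = true) (i j : Fin 3)
    (h : (ent A i.val j.val == ent B i.val j.val) = false) : el A ≠ el B := by
  intro e
  have e2 : (el A).1.1 i j = (el B).1.1 i j := by rw [e]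
  rw [el_coe hA, el_coe hB] at e2
  have e3 : ent A i.val j.val = ent B i.val j.val := by
    have := congrArg (fun x : K16 => x.v.val) e2
    simpa [dec, kE_val (ent_lt _ _ _)] using this
  simp [e3] at h

end Cfsg.Agent.Lib.U34
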