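import Cfsg.Agent.Lib.U34.Data

/-! Kernel checks of the `PSU₃(4)` certificate. -/

set_option autoImplicit false

namespace Cfsg.Agent.Lib.U34

def field (w : Nat) (D i : Nat) : Nat := Nat.mod (Nat.shiftRight D (Nat.mul w i)) (Nat.pow 2 w)

def repN (i : Nat) : Nat := field 36 repsD i
def klN (n : Nat) : Nat := field 36 klD n
def genN : Nat → Nat
  | 0 => genN0
  | 1 => genN1
  | 2 => genN2
  | _ => genN3
def tabN : Nat → Nat → Nat
  | 0, i => field 17 tab0D i
  | 1, i => field 17 tab1D i
  | 2, i => field 17 tab2D i
  | 3, i => field 17 tab3D i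
  | _, i => field 17 tab4D i
def actN : Nat → Nat
  | 4 => cN
  | k => genN k
def imgN (g i : Nat) : Nat := Nat.div (tabN g i) 128
def kN (g i : Nat) : Nat := Nat.mod (tabN g i) 128

def allLt : Nat → (Nat → Bool) → Bool
  | 0, _ => true
  | n + 1, f => f n && allLt n f

theorem allLt_spec : ∀ {n : Nat} {f : Nat → Bool}, allLt n f = true → ∀ {i : Nat}, i < n → f i = true
  | n + 1, f, h, i, hi => by
    simp only [allLt, Bool.and_eq_true] at h
    rcases Nat.lt_succ_iff_lt_or_eq.1 hi with h' | rfl
    · exact allLt_spec h.2 h'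
    · exact h.1

/-- trilinear function `Σ_j A_{a,j} A_{b,j+1} A_{c,j+2}` -/
def triN (A a b c : Nat) : Nat :=
  addN (addN (mulN (mulN (ent A a 0) (ent A b 1)) (ent A c 2))
    (mulN (mulN (ent A a 1) (ent A b 2)) (ent A c 0)))
    (mulN (mulN (ent A a 2) (ent A b 0)) (ent A c 1))

def keyN (A : Nat) : Nat :=
  triN A 0 0 0 + 16 * (triN A 1 1 1 + 16 * (triN A 0 1 2 + 16 * (triN A 0 0 1 +
    16 * (triN A 0 0 2 + 16 * triN A 0 1 1))))

theorem good_reps : allLt 832 (fun i => goodN (repN i)) = true := by decide +kernel
theorem good_kl : allLt 75 (fun n => goodN (klN n)) = true := by decide +kernel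
theorem good_gens : allLt 5 (fun k => goodN (actN k)) = true := by decide +kernel

theorem keys_lt : allLt 831 (fun i => decide (keyN (repN i) < keyN (repN (i + 1)))) = true := by
  decide +kernel

def tabOK (g : Nat) : Bool := allLt 832 fun i =>
  Nat.blt (imgN g i) 832 && (Nat.blt (kN g i) 75 &&
    eqProd (actN g) (repN i) (repN (imgN g i)) (klN (kN g i)))

theorem tab0_ok : tabOK 0 = true := by decide +kernel
theorem tab1_ok : tabOK 1 = true := by decide +kernel
theorem tab2_ok : tabOK 2 = true := by decide +kernel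
theorem tab3_ok : tabOK 3 = true := by decide +kernel
theorem tab4_ok : tabOK 4 = true := by decide +kernel

theorem tab_ok {g : Nat} (hg : g < 5) : tabOK g = true := by
  interval_cases g
  exacts [tab0_ok, tab1_ok, tab2_ok, tab3_ok, tab4_ok]

theorem kl_zero : klN 0 = idN := by decide +kernel

/-- each code in the table of `K` is a word in the three generators of `K` -/
theorem kl_step : allLt 74 (fun m =>
    if (m + 1) % 3 != 0 then eqProd (klN (m + 1)) idN (klN m) genN3
    else if (m + 1) % 15 != 0 then eqProd (klN (m + 1)) idN (klN (m - 2)) genN2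
    else eqProd (klN (m + 1)) idN (klN (m - 14)) genN1) = true := by decide +kernel

theorem kl_distinct : allLt 75 (fun n => allLt n fun m =>
    !(all3 fun i j => ent (klN m) i j == ent (klN n) i j)) = true := by decide +kernel

theorem start_eq : repN startN = klN n0 := by decide +kernel

def parX (y : Nat) : Nat := Nat.mod (Nat.div (field 22 parD y) 4) 1024
def parG (y : Nat) : Nat := Nat.mod (field 22 parD y) 4
def rank (y : Nat) : Nat := Nat.div (field 22 parD y) 4096

theorem par_ok : allLt 832 (fun y => Nat.beq y startN ||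
    (Nat.blt (parX y) 832 && (Nat.blt (rank (parX y)) (rank y) && Nat.beq (imgN (parG y) (parX y)) y))) = true := by
  decide +kernel

/-- the twelve basis functions -/
def basN (l i : Nat) : Nat := field 3 basD (Nat.add (Nat.mul 832 l) i)
def coefN (g l m : Nat) : Nat := field 3 coefD (Nat.add (Nat.mul 12 (Nat.add (Nat.mul 12 g) l)) m)

def sumLt : Nat → (Nat → Nat) → Nat
  | 0, _ => 0
  | n + 1, f => Nat.add (f n) (sumLt n f)

def invOK (g : Nat) : Bool := allLt 12 fun l => allLt 832 fun i =>
  Nat.beq (Nat.mod (basN l (imgN g i)) 5)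
    (Nat.mod (sumLt 12 fun m => Nat.mul (coefN g l m) (basN m i)) 5)

theorem inv0_ok : invOK 0 = true := by decide +kernel
theorem inv1_ok : invOK 1 = true := by decide +kernel
theorem inv2_ok : invOK 2 = true := by decide +kernel
theorem inv3_ok : invOK 3 = true := by decide +kernel

theorem inv_ok {g : Nat} (hg : g < 4) : invOK g = true := by
  interval_cases g
  exacts [inv0_ok, inv1_ok, inv2_ok, inv3_ok]

def orbSum (f : Nat → Nat) : Nat → Nat → Nat
  | 0, _ => 0
  | n + 1, x => Nat.add (f x) (orbSum f n (imgN 4 x))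

theorem orb_ok : allLt 12 (fun l => allLt 832 fun x =>
    Nat.beq (Nat.mod (orbSum (basN l) 13 x) 5) 0) = true := by decide +kernel

theorem bas_ne : ¬ basN 0 787 % 5 = 0 := by decide +kernel

def powOK (D g n : Nat) : Bool :=
  Nat.beq (field 36 D 0) idN && (Nat.beq (field 36 D n) idN &&
  (allLt n (fun i => goodN (field 36 D i) && eqProd (field 36 D i) g (field 36 D (i + 1)) idN) &&
  allLt n (fun i => Nat.beq i 0 || !(all3 fun a b => ent (field 36 D i) a b == ent idN a b))))

theorem pc_ok : powOK pcD cN 13 = true := by decide +kernel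
theorem p10_ok : powOK p10D g10N 10 = true := by decide +kernel
theorem p15_ok : powOK p15D g15N 15 = true := by decide +kernel
theorem good_extra : (goodN g10N && goodN g15N) = true := by decide +kernel

end Cfsg.Agent.Lib.U34
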