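import Cfsg.Agent.Lib.U34.Checks
import Cfsg.Agent.Lib.Unitary.Order

/-! `SU₃(4)` has a 12-dimensional `𝔽₅`-module on which elements of order 13 act without fixed points. -/

set_option autoImplicit false

namespace Cfsg.Agent.Lib.U34

/-- `SU₃(4)` over the concrete field -/
abbrev G : Type := ↥(Cfsg.SU 3 K16 4)

instance su34Finite : Finite G :=
  Finite.of_injective (fun g : G => g.1) Subtype.val_injective

theorem card_G : Nat.card G = 62400 := by
  have h := Cfsg.Agent.Lib.Unitary.card_SU (n := 3) card_k16 (by norm_num)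
  rw [Cfsg.Agent.Lib.Unitary.card_GU card_k16] at h
  norm_num [Finset.prod_range_succ, Nat.even_iff] at h
  show Nat.card (Cfsg.SU 3 K16 4) = 62400
  omega

theorem rep_good {i : Nat} (h : i < 832) : goodN (repN i) = true := allLt_spec good_reps h
theorem kl_good {i : Nat} (h : i < 75) : goodN (klN i) = true := allLt_spec good_kl h
theorem gen_good {k : Nat} (h : k < 5) : goodN (actN k) = true := allLt_spec good_gens h
theorem id_good : goodN idN = true := by decide +kernel

theorem el_mul_id {A B C : Nat} (hA : goodN A = true) (hB : goodN B = true) (hC : goodN C = true)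
    (h : eqProd A idN B C = true) : el A = el B * el C := by
  have := el_mul hA id_good hB hC h
  rwa [el_idN, mul_one] at this

theorem el_ne' {A B : Nat} (hA : goodN A = true) (hB : goodN B = true)
    (h : (!(all3 fun i j => ent A i j == ent B i j)) = true) : el A ≠ el B := by
  intro e
  rw [Bool.not_eq_true'] at h
  have key : ∀ i j : Fin 3, (ent A i.val j.val == ent B i.val j.val) = true := by
    intro i j
    cases hb : (ent A i.val j.val == ent B i.val j.val) with
    | true => rfl
    | false => exact absurd e (el_ne hA hB i j hb)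
  have h0 := key 0 0
  have h1 := key 0 1
  have h2 := key 0 2
  have h3 := key 1 0
  have h4 := key 1 1
  have h5 := key 1 2
  have h6 := key 2 0
  have h7 := key 2 1
  have h8 := key 2 2
  simp only [Fin.val_zero, Fin.val_one, Fin.val_two] at h0 h1 h2 h3 h4 h5 h6 h7 h8
  simp [all3, h0, h1, h2, h3, h4, h5, h6, h7, h8] at h

/-- the subgroup of order 75 -/
def K : Subgroup G := Subgroup.closure {el genN1, el genN2, el genN3}

theorem kl_mem : ∀ n, n < 75 → el (klN n) ∈ K := by
  intro n
  induction n using Nat.strong_induction_on with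
  | _ n ih =>
    intro hn
    rcases n with _ | m
    · rw [kl_zero, el_idN]; exact K.one_mem
    · have h := allLt_spec kl_step (i := m) (by omega)
      have g1 : el genN1 ∈ K := Subgroup.subset_closure (Set.mem_insert _ _)
      have g2 : el genN2 ∈ K := Subgroup.subset_closure (Set.mem_insert_of_mem _ (Set.mem_insert _ _))
      have g3 : el genN3 ∈ K :=
        Subgroup.subset_closure (Set.mem_insert_of_mem _ (Set.mem_insert_of_mem _ rfl))
      try simp only at h
      split_ifs at h
      · rw [el_mul_id (kl_good hn) (kl_good (i := m) (by omega)) (gen_good (k := 3) (by norm_num)) h]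
        exact K.mul_mem (ih m (by omega) (by omega)) g3
      · rw [el_mul_id (kl_good hn) (kl_good (i := m - 2) (by omega)) (gen_good (k := 2) (by norm_num)) h]
        exact K.mul_mem (ih (m - 2) (by omega) (by omega)) g2
      · rw [el_mul_id (kl_good hn) (kl_good (i := m - 14) (by omega)) (gen_good (k := 1) (by norm_num)) h]
        exact K.mul_mem (ih (m - 14) (by omega) (by omega)) g1

theorem card_K : 75 ≤ Nat.card K := by
  let f : Fin 75 → K := fun n => ⟨el (klN n.val), kl_mem _ n.2⟩
  have hf : Function.Injective f := by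
    intro a b hab
    have e : el (klN a.val) = el (klN b.val) := congrArg Subtype.val hab
    rcases lt_trichotomy a.val b.val with h | h | h
    · exact absurd e (el_ne' (kl_good a.2) (kl_good b.2) (allLt_spec (allLt_spec kl_distinct b.2) h))
    · exact Fin.ext h
    · exact absurd e.symm (el_ne' (kl_good b.2) (kl_good a.2) (allLt_spec (allLt_spec kl_distinct a.2) h))
  simpa using Nat.card_le_card_of_injective f hf

/-- the trilinear function -/
def Tri (M : Matrix (Fin 3) (Fin 3) K16) (a b c : Fin 3) : K16 :=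
  M a 0 * M b 1 * M c 2 + M a 1 * M b 2 * M c 0 + M a 2 * M b 0 * M c 1

theorem kE_triN (A : Nat) (a b c : Fin 3) :
    kE (triN A a.val b.val c.val) = Tri (dec A) a b c := by
  have h : ∀ x y z : Nat, mulN (mulN x y) z < 16 := fun x y z => mulN_lt _ _
  rw [triN, kE_add (addN_lt (h _ _ _) (h _ _ _)) (h _ _ _), kE_add (h _ _ _) (h _ _ _)]
  simp only [Tri, dec, Matrix.of_apply, Fin.val_zero, Fin.val_one, Fin.val_two,
    kE_mul (mulN_lt _ _) (ent_lt _ _ _), kE_mul (ent_lt _ _ _) (ent_lt _ _ _)]

theorem dec_gen1 : dec genN1 = !![kE 8, 0, 0; 0, kE 15, 0; 0, 0, 1] := by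
  ext i j; fin_cases i <;> fin_cases j <;> decide +kernel
theorem dec_gen2 : dec genN2 = !![1, 0, 0; 0, kE 8, 0; 0, 0, kE 15] := by
  ext i j; fin_cases i <;> fin_cases j <;> decide +kernel
theorem dec_gen3 : dec genN3 = !![0, 0, 1; 1, 0, 0; 0, 1, 0] := by
  ext i j; fin_cases i <;> fin_cases j <;> decide +kernel
theorem z_inv : kE 8 * kE 15 = (1 : K16) := by decide +kernel

theorem tri_invariant {k : G} (hk : k ∈ K) :
    ∀ (g : G) (a b c : Fin 3), Tri (g * k).1.1 a b c = Tri g.1.1 a b c := by
  have hgen : ∀ (N : Nat), N < 5 → ∀ (g : G), (g * el (actN N)).1.1 = g.1.1 * dec (actN N) := by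
    intro N hN g
    show g.1.1 * (el (actN N)).1.1 = _
    rw [el_coe (gen_good hN)]
  induction hk using Subgroup.closure_induction with
  | mem x hx =>
    intro g a b c
    simp only [Set.mem_insert_iff, Set.mem_singleton_iff] at hx
    rcases hx with rfl | rfl | rfl
    · rw [show (g * el genN1).1.1 = _ from hgen 1 (by norm_num) g]
      show Tri (g.1.1 * dec genN1) a b c = _
      rw [dec_gen1]
      simp [Tri, Matrix.mul_apply, Fin.sum_univ_three]
      linear_combination (g.1.1 a 0 * g.1.1 b 1 * g.1.1 c 2 + g.1.1 a 1 * g.1.1 b 2 * g.1.1 c 0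
        + g.1.1 a 2 * g.1.1 b 0 * g.1.1 c 1) * z_inv
    · rw [show (g * el genN2).1.1 = _ from hgen 2 (by norm_num) g]
      show Tri (g.1.1 * dec genN2) a b c = _
      rw [dec_gen2]
      simp [Tri, Matrix.mul_apply, Fin.sum_univ_three]
      linear_combination (g.1.1 a 0 * g.1.1 b 1 * g.1.1 c 2 + g.1.1 a 1 * g.1.1 b 2 * g.1.1 c 0
        + g.1.1 a 2 * g.1.1 b 0 * g.1.1 c 1) * z_inv
    · rw [show (g * el genN3).1.1 = _ from hgen 3 (by norm_num) g]
      show Tri (g.1.1 * dec genN3) a b c = _
      rw [dec_gen3]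
      simp [Tri, Matrix.mul_apply, Fin.sum_univ_three]
      ring
  | one => intro g a b c; rw [mul_one]
  | mul x y _ _ hx hy => intro g a b c; rw [← mul_assoc, hy, hx]
  | inv x _ hx =>
    intro g a b c
    have := hx (g * x⁻¹) a b c
    rw [inv_mul_cancel_right] at this
    exact this.symm

theorem keyN_eq {i j : Nat} (hi : i < 832) (hj : j < 832)
    (h : (el (repN i))⁻¹ * el (repN j) ∈ K) : keyN (repN i) = keyN (repN j) := by
  have e : ∀ a b c : Fin 3, triN (repN i) a.val b.val c.val = triN (repN j) a.val b.val c.val := by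
    intro a b c
    have h1 := tri_invariant h (el (repN i)) a b c
    rw [mul_inv_cancel_left, el_coe (rep_good hi), el_coe (rep_good hj), ← kE_triN, ← kE_triN] at h1
    have h2 := congrArg (fun x : K16 => x.v.val) h1
    have hlt : ∀ A, triN A a.val b.val c.val < 16 := fun A =>
      addN_lt (addN_lt (mulN_lt _ _) (mulN_lt _ _)) (mulN_lt _ _)
    simpa [kE_val (hlt _)] using h2.symm
  have h0 := e 0 0 0
  have h1 := e 1 1 1
  have h2 := e 0 1 2
  have h3 := e 0 0 1
  have h4 := e 0 0 2
  have h5 := e 0 1 1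
  simp only [Fin.val_zero, Fin.val_one, Fin.val_two] at h0 h1 h2 h3 h4 h5
  simp only [keyN, h0, h1, h2, h3, h4, h5]

/-- the numbering of the cosets of `K` -/
def cosetMap (i : Fin 832) : G ⧸ K := QuotientGroup.mk (el (repN i.val))

theorem cosetMap_injective : Function.Injective cosetMap := by
  intro a b hab
  have h := keyN_eq a.2 b.2 (QuotientGroup.eq.1 hab)
  have hmono : StrictMono fun i : Fin 832 => keyN (repN i.val) := by
    rw [Fin.strictMono_iff_lt_succ]
    intro i
    simpa using of_decide_eq_true (allLt_spec keys_lt i.2)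
  exact hmono.injective h

theorem cosetMap_bijective : Function.Bijective cosetMap := by
  refine ⟨cosetMap_injective, ?_⟩
  have h1 : Nat.card (G ⧸ K) * Nat.card K = 62400 := by
    rw [← Subgroup.card_eq_card_quotient_mul_card_subgroup, card_G]
  have h2 : 832 ≤ Nat.card (G ⧸ K) := by
    simpa using Nat.card_le_card_of_injective cosetMap cosetMap_injective
  have h3 : Nat.card (G ⧸ K) = 832 := by
    refine le_antisymm ?_ h2
    by_contra hc
    have : 833 * 75 ≤ Nat.card (G ⧸ K) * Nat.card K := Nat.mul_le_mul (by omega) card_K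
    omega
  exact (Function.Injective.bijective_of_nat_card_le cosetMap_injective (by simp [h3])).2

/-- `Fin 832 ≃ G ⧸ K` -/
noncomputable def cosetEquiv : Fin 832 ≃ G ⧸ K := Equiv.ofBijective cosetMap cosetMap_bijective

noncomputable def act (g : G) (i : Fin 832) : Fin 832 := cosetEquiv.symm (g • cosetEquiv i)

theorem act_one (i : Fin 832) : act 1 i = i := by simp [act]

theorem act_mul (g h : G) (i : Fin 832) : act (g * h) i = act g (act h i) := by
  simp [act, mul_smul]

theorem tab_spec {k i : Nat} (hk : k < 5) (hi : i < 832) :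
    imgN k i < 832 ∧ kN k i < 75 ∧
      el (actN k) * el (repN i) = el (repN (imgN k i)) * el (klN (kN k i)) := by
  have h := allLt_spec (tab_ok hk) hi
  simp only [Bool.and_eq_true, Nat.blt_eq] at h
  exact ⟨h.1, h.2.1, el_mul (gen_good hk) (rep_good hi) (rep_good h.1) (kl_good h.2.1) h.2.2⟩

theorem act_gen {k : Nat} (hk : k < 5) (i : Fin 832) :
    (act (el (actN k)) i).val = imgN k i.val := by
  obtain ⟨h1, h2, h3⟩ := tab_spec hk i.2
  have : act (el (actN k)) i = ⟨imgN k i.val, h1⟩ := by
    rw [act, Equiv.symm_apply_eq]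
    show el (actN k) • QuotientGroup.mk (el (repN i.val)) = QuotientGroup.mk (el (repN (imgN k i.val)))
    rw [MulAction.Quotient.smul_mk, smul_eq_mul, h3]
    exact QuotientGroup.eq.2 (by simpa using K.inv_mem (kl_mem _ h2))
  rw [this]

theorem gens_top : Subgroup.closure {g : G | ∃ k, k < 4 ∧ g = el (actN k)} = ⊤ := by
  set H := Subgroup.closure {g : G | ∃ k, k < 4 ∧ g = el (actN k)} with hH
  have hg : ∀ k, k < 4 → el (actN k) ∈ H := fun k hk => Subgroup.subset_closure ⟨k, hk, rfl⟩
  have hK : K ≤ H := by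
    rw [K, Subgroup.closure_le]
    intro x hx
    simp only [Set.mem_insert_iff, Set.mem_singleton_iff] at hx
    rcases hx with rfl | rfl | rfl
    exacts [hg 1 (by norm_num), hg 2 (by norm_num), hg 3 (by norm_num)]
  have hrep : ∀ r y, y < 832 → rank y = r → el (repN y) ∈ H := by
    intro r
    induction r using Nat.strong_induction_on with
    | _ r ih =>
      intro y hy hr
      have h := allLt_spec par_ok hy
      simp only [Bool.or_eq_true, Bool.and_eq_true, Nat.blt_eq, Nat.beq_eq] at h
      rcases h with rfl | ⟨hx, hlt, himg⟩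
      · rw [start_eq]; exact hK (kl_mem _ (by decide +kernel))
      · have hG : parG y < 4 := Nat.mod_lt _ (by norm_num)
        obtain ⟨-, h2, h3⟩ := tab_spec (k := parG y) (by omega) hx
        rw [himg] at h3
        rw [eq_mul_inv_of_mul_eq h3.symm]
        exact H.mul_mem (H.mul_mem (hg _ hG) (ih _ (hr ▸ hlt) _ hx rfl))
          (H.inv_mem (hK (kl_mem _ h2)))
  rw [eq_top_iff]
  intro g _
  obtain ⟨i, hi⟩ := cosetMap_bijective.2 (QuotientGroup.mk g)
  have := hK (QuotientGroup.eq.1 hi)
  have h2 := H.mul_mem (hrep _ _ i.2 rfl) this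
  rwa [mul_inv_cancel_left] at h2

instance fact13U34 : Fact (Nat.Prime 13) := ⟨by norm_num⟩
instance fact5U34 : Fact (Nat.Prime 5) := ⟨by norm_num⟩

/-- basis functions -/
def bas (l : Fin 12) (i : Fin 832) : ZMod 5 := (basN l.val i.val : ℕ)

/-- the module -/
def E : Submodule (ZMod 5) (Fin 832 → ZMod 5) := Submodule.span (ZMod 5) (Set.range bas)

theorem cast_sumLt : ∀ (n : Nat) (f : Nat → Nat),
    ((sumLt n f : ℕ) : ZMod 5) = ∑ m ∈ Finset.range n, ((f m : ℕ) : ZMod 5)
  | 0, f => by simp [sumLt]
  | n + 1, f => by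
    rw [Finset.sum_range_succ, ← cast_sumLt n f, sumLt]
    simp [add_comm]

theorem bas_gen {k : Nat} (hk : k < 4) (l : Fin 12) :
    (fun i => bas l (act (el (actN k)) i)) =
      ∑ m : Fin 12, ((coefN k l.val m.val : ℕ) : ZMod 5) • bas m := by
  funext i
  have h := Nat.eq_of_beq_eq_true (allLt_spec (allLt_spec (inv_ok hk) l.2) i.2)
  have h' := (ZMod.natCast_eq_natCast_iff' _ _ 5).2 h
  rw [cast_sumLt] at h'
  simp only [Nat.mul_eq, Nat.cast_mul] at h'
  rw [Finset.sum_apply]
  simp only [bas, Pi.smul_apply, smul_eq_mul, act_gen (show k < 5 by omega) i]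
  rw [h', Finset.sum_range]

def pullback (s : Fin 832 → Fin 832) : (Fin 832 → ZMod 5) →ₗ[ZMod 5] (Fin 832 → ZMod 5) :=
  LinearMap.funLeft (ZMod 5) (ZMod 5) s

theorem E_invariant (g : G) : ∀ f ∈ E, (fun i => f (act g i)) ∈ E := by
  have hgen : ∀ k, k < 4 → ∀ f ∈ E, (fun i => f (act (el (actN k)) i)) ∈ E := by
    intro k hk f hf
    have : E ≤ E.comap (pullback (act (el (actN k)))) := by
      rw [E, Submodule.span_le]
      rintro _ ⟨l, rfl⟩
      show (fun i => bas l (act (el (actN k)) i)) ∈ E
      rw [bas_gen hk]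
      exact Submodule.sum_mem _ fun m _ => E.smul_mem _ (Submodule.subset_span ⟨m, rfl⟩)
    exact this hf
  have hg : g ∈ Subgroup.closure {g : G | ∃ k, k < 4 ∧ g = el (actN k)} := by
    rw [gens_top]; trivial
  induction hg using Subgroup.closure_induction with
  | mem x hx => obtain ⟨k, hk, rfl⟩ := hx; exact hgen k hk
  | one => intro f hf; simpa [act_one] using hf
  | mul x y _ _ hx hy => intro f hf; simpa [act_mul] using hy _ (hx f hf)
  | inv x _ hx =>
    have hp : ∀ n : ℕ, ∀ f ∈ E, (fun i => f (act (x ^ n) i)) ∈ E := by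
      intro n
      induction n with
      | zero => intro f hf; simpa [act_one] using hf
      | succ n ih => intro f hf; simpa [pow_succ, act_mul] using hx _ (ih f hf)
    obtain ⟨n, hn⟩ : ∃ n : ℕ, x⁻¹ = x ^ n := by
      obtain ⟨n, hn⟩ := ((isOfFinOrder_of_finite x).mem_powers_iff_mem_zpowers.2
        ((Subgroup.zpowers x).inv_mem (Subgroup.mem_zpowers x)))
      exact ⟨n, hn.symm⟩
    rw [hn]; exact hp n

theorem cast_orbSum (f : Nat → Nat) : ∀ (n : Nat) (x : Fin 832),
    ((orbSum f n x.val : ℕ) : ZMod 5) =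
      ∑ j ∈ Finset.range n, ((f (act (el cN ^ j) x).val : ℕ) : ZMod 5)
  | 0, x => by simp [orbSum]
  | n + 1, x => by
    have h := act_gen (show 4 < 5 by norm_num) x
    rw [show actN 4 = cN from rfl] at h
    rw [Finset.sum_range_succ', orbSum, ← h]
    simp only [Nat.add_eq, Nat.cast_add, cast_orbSum f n (act (el cN) x), pow_zero, act_one,
      pow_succ, act_mul]
    ring

theorem orbit_sum {f : Fin 832 → ZMod 5} (hf : f ∈ E) (x : Fin 832) :
    ∑ j ∈ Finset.range 13, f (act (el cN ^ j) x) = 0 := by
  induction hf using Submodule.span_induction with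
  | mem v hv =>
    obtain ⟨l, rfl⟩ := hv
    have h := Nat.eq_of_beq_eq_true (allLt_spec (allLt_spec orb_ok l.2) x.2)
    have h' := (ZMod.natCast_eq_zero_iff _ 5).2 (Nat.dvd_of_mod_eq_zero h)
    rw [← h', cast_orbSum]
    rfl
  | zero => simp
  | add a b _ _ ha hb => simp [Finset.sum_add_distrib, ha, hb]
  | smul r a _ ha => simp [← Finset.mul_sum, ha]

theorem pow_spec {D g n : Nat} (hg : goodN g = true) (h : powOK D g n = true) :
    el g ^ n = 1 ∧ ∀ m, 0 < m → m < n → el g ^ m ≠ 1 := by
  simp only [powOK, Bool.and_eq_true, Nat.beq_eq] at h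
  obtain ⟨h0, hn, hstep, hne⟩ := h
  have hgood : ∀ i, i ≤ n → goodN (field 36 D i) = true := by
    intro i hi
    rcases Nat.lt_or_eq_of_le hi with hi | rfl
    · have := allLt_spec hstep hi
      simp only [Bool.and_eq_true] at this
      exact this.1
    · rw [hn]; exact id_good
  have hp : ∀ i, i ≤ n → el (field 36 D i) = el g ^ i := by
    intro i
    induction i with
    | zero => intro _; rw [h0, el_idN, pow_zero]
    | succ i ih =>
      intro hi
      have := allLt_spec hstep (i := i) (by omega)
      simp only [Bool.and_eq_true] at this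
      have h3 := el_mul this.1 hg (hgood _ hi) id_good this.2
      rw [el_idN, mul_one, ih (by omega), ← pow_succ] at h3
      exact h3.symm
  refine ⟨by rw [← hp n le_rfl, hn, el_idN], fun m hm0 hm h1 => ?_⟩
  have := allLt_spec hne hm
  simp only [Bool.or_eq_true, Nat.beq_eq] at this
  rcases this with rfl | this
  · omega
  · exact el_ne' (hgood m hm.le) id_good this (by rw [hp m hm.le, h1, el_idN])

theorem order_eq {D g n : Nat} (hg : goodN g = true) (h : powOK D g n = true) (hn : 0 < n) :
    orderOf (el g) = n :=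
  (orderOf_eq_iff hn).2 ⟨(pow_spec hg h).1, fun m hm hm0 => (pow_spec hg h).2 m hm0 hm⟩

theorem order_c : orderOf (el cN) = 13 :=
  order_eq (gen_good (show 4 < 5 by norm_num)) pc_ok (by norm_num)

theorem exists_order_ten : ∃ g : G, orderOf g = 10 :=
  ⟨el g10N, order_eq (by simpa using (Bool.and_eq_true _ _ ▸ good_extra).1) p10_ok (by norm_num)⟩

theorem exists_order_fifteen : ∃ g : G, orderOf g = 15 :=
  ⟨el g15N, order_eq (by simpa using (Bool.and_eq_true _ _ ▸ good_extra).2) p15_ok (by norm_num)⟩

theorem fixed_c {f : Fin 832 → ZMod 5} (hf : f ∈ E) (h : ∀ i, f (act (el cN) i) = f i) : f = 0 := by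
  funext x
  have hj : ∀ (j : ℕ) (x : Fin 832), f (act (el cN ^ j) x) = f x := by
    intro j
    induction j with
    | zero => simp [act_one]
    | succ j ih => intro x; rw [pow_succ, act_mul, ih, h]
  have h13 := orbit_sum hf x
  simp only [hj, Finset.sum_const, Finset.card_range, nsmul_eq_mul] at h13
  rcases mul_eq_zero.1 h13 with h' | h'
  · exact absurd h' (by decide)
  · exact h'


theorem fixed_thirteen {g : G} (hg : orderOf g = 13) {f : Fin 832 → ZMod 5} (hf : f ∈ E)
    (h : ∀ i, f (act g i) = f i) : f = 0 := by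
  have hfac : (Nat.card G).factorization 13 = 1 := by
    rw [card_G]; simp [Nat.factorization_def _ (by norm_num : Nat.Prime 13)]
    rw [show 62400 = 13 ^ 1 * 4800 by norm_num, padicValNat.mul (by norm_num) (by norm_num),
      padicValNat.prime_pow, padicValNat.eq_zero_of_not_dvd (by norm_num : ¬ 13 ∣ 4800)]
  let P : Sylow 13 G := Sylow.ofCard (Subgroup.zpowers (el cN))
    (by rw [Nat.card_zpowers, order_c, hfac, pow_one])
  let Q : Sylow 13 G := Sylow.ofCard (Subgroup.zpowers g) (by rw [Nat.card_zpowers, hg, hfac, pow_one])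
  obtain ⟨x, hx⟩ := MulAction.exists_smul_eq G Q P
  have hc : el cN ∈ ((x • Q : Sylow 13 G) : Subgroup G) := by
    rw [hx]; exact Subgroup.mem_zpowers _
  rw [Sylow.smul_def] at hc
  obtain ⟨y, hy, hyc⟩ := hc
  obtain ⟨j, rfl⟩ := Subgroup.mem_zpowers_iff.1 (show y ∈ Subgroup.zpowers g from hy)
  let S : Subgroup G :=
    { carrier := {y | ∀ i, f (act y i) = f i}
      one_mem' := fun i => by rw [act_one]
      mul_mem' := fun {a b} ha hb i => by rw [act_mul, ha, hb]
      inv_mem' := fun {a} ha i => by
        have := ha (act a⁻¹ i)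
        rwa [← act_mul, mul_inv_cancel, act_one, eq_comm] at this }
  have hfj : ∀ i, f (act (g ^ j) i) = f i := Subgroup.zpow_mem S (show g ∈ S from h) j
  have hyc' : x * g ^ j * x⁻¹ = el cN := hyc
  have h0 := fixed_c (E_invariant x⁻¹ f hf) (fun i => by
    show f (act x⁻¹ (act (el cN) i)) = f (act x⁻¹ i)
    rw [← act_mul, ← hyc', mul_assoc, inv_mul_cancel_left, act_mul, hfj])
  funext i
  have := congrFun h0 (act x i)
  simpa [← act_mul, act_one] using this

theorem bas_mem : bas 0 ∈ E := Submodule.subset_span ⟨0, rfl⟩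

theorem E_ne : ∃ f ∈ E, f ≠ 0 := by
  refine ⟨_, bas_mem, fun h => ?_⟩
  have h1 := congrFun h (⟨787, by norm_num⟩ : Fin 832)
  simp only [bas, Pi.zero_apply] at h1
  exact bas_ne (Nat.mod_eq_zero_of_dvd ((ZMod.natCast_eq_zero_iff _ _).1 h1))

end Cfsg.Agent.Lib.U34
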